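import Groth.Agent.H4HilbNF.Basic
import Groth.Agent.GenNFlat.Main

/-!
Ranks of the pieces of a normally flat module at the primes containing the ideal.
-/

set_option autoImplicit false
set_option linter.style.haveILetI false
set_option backward.isDefEq.respectTransparency false
set_option backward.isDefEq.respectTransparency.types false

universe u

open TensorProduct IsLocalRing Groth.Agent.NFlat6

namespace Groth.Agent.H4NFRank

variable {A : Type u} [CommRing A] [IsNoetherianRing A] (I : Ideal A) (M : Type u) [AddCommGroup M]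
  [Module A M] [Module.Finite A M]

theorem piece_local (Q : Ideal (A ⧸ I)) [Q.IsPrime] (p : Ideal A) [p.IsPrime]
    (hp : Q.comap (Ideal.Quotient.mk I) = p) (A' : Type u) [CommRing A'] [IsLocalRing A'] [IsNoetherianRing A']
    [Algebra A A'] [IsLocalization.AtPrime A' p] (M' : Type u) [AddCommGroup M'] [Module A M'] [Module A' M']
    [IsScalarTower A A' M'] [Module.Finite A' M'] (f : M →ₗ[A] M') [IsLocalizedModule p.primeCompl f]
    (hnf : EGA4.IsNormallyFlat (I.map (algebraMap A A')) M') (n : ℕ) :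
    Module.Flat (A ⧸ I) (LocalizedModule Q.primeCompl (Pc I M n)) ∧
      (Module.Flat (A ⧸ I) (Pc I M n) →
        H4HilbNF.muPc (I.map (algebraMap A A')) M' n =
          Module.rankAtStalk (R := A ⧸ I) (Pc I M n) ⟨Q, inferInstance⟩) := by
  let J := I.map (algebraMap A A')
  let T := A' ⧸ J
  let P' := Pc J M' n
  haveI hTflat : Module.Flat T P' := hnf n
  letI : Module (A ⧸ I) P' := Module.compHom P' (algebraMap (A ⧸ I) T)
  haveI : IsScalarTower (A ⧸ I) T P' := .of_algebraMap_smul fun _ _ => rfl
  haveI : IsScalarTower A (A ⧸ I) P' := .of_algebraMap_smul fun a z => by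
    show algebraMap (A ⧸ I) T (Ideal.Quotient.mk I a) • z = a • z
    rw [show algebraMap (A ⧸ I) T (Ideal.Quotient.mk I a) = algebraMap A' T (algebraMap A _ a) from rfl,
      IsScalarTower.algebraMap_smul, IsScalarTower.algebraMap_smul]
  have hW : Algebra.algebraMapSubmonoid (A ⧸ I) p.primeCompl = Q.primeCompl := by
    ext b
    obtain ⟨a, rfl⟩ := Ideal.Quotient.mk_surjective b
    refine ⟨?_, fun hb => ⟨a, fun ha => hb ?_, rfl⟩⟩
    · rintro ⟨c, hc, hca⟩ hb
      apply hc
      rw [SetLike.mem_coe, ← hp, Ideal.mem_comap]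
      exact (show Ideal.Quotient.mk I c = Ideal.Quotient.mk I a from hca) ▸ hb
    · rw [← hp] at ha
      exact ha
  haveI hlocT : IsLocalization (Algebra.algebraMapSubmonoid (A ⧸ I) p.primeCompl) T := inferInstance
  rw [hW] at hlocT
  obtain ⟨e⟩ := GenNFlat.exists_pcEquiv I A' M' n
  let g₀ := pcMap (R := I) f n
  haveI := isLocalizedModule_pcMap (R := I) p.primeCompl f n
  let g : Pc I M n →ₗ[A] P' := e.toLinearMap ∘ₗ g₀
  haveI : IsLocalizedModule p.primeCompl g := IsLocalizedModule.of_linearEquiv _ g₀ e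
  let g' : Pc I M n →ₗ[A ⧸ I] P' :=
    LinearMap.extendScalarsOfSurjective (show Function.Surjective (algebraMap A (A ⧸ I)) from
      Ideal.Quotient.mk_surjective) g
  haveI : IsLocalizedModule p.primeCompl (g'.restrictScalars A) := ‹IsLocalizedModule p.primeCompl g›
  have hloc : IsLocalizedModule (Algebra.algebraMapSubmonoid (A ⧸ I) p.primeCompl) g' :=
    IsLocalizedModule.of_restrictScalars (A := A ⧸ I) p.primeCompl g'
  rw [hW] at hloc
  haveI := hlocT
  haveI := hloc
  haveI : Module.Flat (A ⧸ I) P' := (Module.flat_iff_of_isLocalization T Q.primeCompl P').1 hTflat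
  refine ⟨Module.Flat.of_linearEquiv
    (IsLocalizedModule.linearEquiv Q.primeCompl (LocalizedModule.mkLinearMap Q.primeCompl (Pc I M n)) g'),
    fun hflat => ?_⟩
  haveI := hflat
  have hIp : I ≤ p := by
    rw [← hp]
    exact fun a ha => by rw [Ideal.mem_comap, Ideal.Quotient.eq_zero_iff_mem.2 ha]; exact zero_mem _
  have hJ : J ≤ maximalIdeal A' :=
    (Ideal.map_mono hIp).trans (IsLocalization.AtPrime.map_eq_maximalIdeal p A').le
  haveI : Nontrivial T := Ideal.Quotient.nontrivial_iff.2 fun h => (maximalIdeal.isMaximal A').ne_top (top_le_iff.1 (h ▸ hJ))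
  haveI : IsLocalRing T := IsLocalRing.of_surjective' (Ideal.Quotient.mk J) Ideal.Quotient.mk_surjective
  haveI : Module.Finite A ↥(Pw I M n) := Module.Finite.iff_fg.2 (IsNoetherian.noetherian _)
  haveI : Module.Finite (A ⧸ I) (Pc I M n) := Module.Finite.of_restrictScalars_finite A _ _
  haveI : Module.Finite T P' := Module.Finite.of_restrictScalars_finite A' _ _
  haveI : Module.Free T P' := Module.free_of_flat_of_isLocalRing
  have hbc : IsBaseChange T g' := (isLocalizedModule_iff_isBaseChange Q.primeCompl T g').1 hloc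
  have hr := Module.rankAtStalk_isBaseChange hbc (IsLocalRing.closedPoint T)
  rw [Module.rankAtStalk_eq_finrank_of_free] at hr
  have hc : (IsLocalRing.closedPoint T).comap (algebraMap (A ⧸ I) T) = ⟨Q, inferInstance⟩ :=
    PrimeSpectrum.ext (IsLocalization.AtPrime.under_maximalIdeal T Q)
  rw [hc] at hr
  rw [← hr]
  obtain ⟨e'⟩ := NFlatDimH4.exists_equiv J M' hJ hnf n
  exact (H4HilbNF.mu_congr e').trans (H4HilbNF.mu_pi_quot hJ _)

theorem flat_piece (n : ℕ)
    (h : ∀ (Q : Ideal (A ⧸ I)) [Q.IsMaximal],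
      Module.Flat (A ⧸ I) (LocalizedModule Q.primeCompl (Pc I M n))) :
    Module.Flat (A ⧸ I) (Pc I M n) :=
  Module.flat_of_isLocalized_maximal (A ⧸ I) (Pc I M n) (fun Q _ => LocalizedModule Q.primeCompl (Pc I M n))
    (fun Q _ => LocalizedModule.mkLinearMap Q.primeCompl (Pc I M n)) h

end Groth.Agent.H4NFRank
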